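import Cfsg.Agent.DS.Defs
import Cfsg.Agent.DS.Red.Perf

/-!
# The box `BoxONS`: S5882 from S5881 (helper54)
-/

set_option autoImplicit false

namespace Cfsg.Agent.DS.Red

open Cfsg.Agent.H936

theorem boxONS : BoxONS := by
  intro _ h81 G _ _ hperf H hH hcore
  rcases perfect_cases hperf hH hcore with h | ⟨S, hN, hS, hSa, hC⟩
  · exact Or.inl (h.mono (by norm_num))
  · exact h81 G S hN hS hSa hC H hH

end Cfsg.Agent.DS.Red
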